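import Mathlib

/-!
# Reflecting specializations after base change: reduction to base changes locally of finite type
-/

set_option linter.style.haveILetI false
set_option backward.isDefEq.respectTransparency false

universe u

open CategoryTheory Limits AlgebraicGeometry TensorProduct

namespace GrothLib.ReflSpecBC

/-- An element of a tensor product comes from a finitely generated subalgebra. -/
theorem exists_fg_mem_range {A B A' : Type u} [CommRing A] [CommRing B] [Algebra A B] [CommRing A'] [Algebra A A']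
    (s : B ⊗[A] A') : ∃ S : Subalgebra A A', S.FG ∧
      s ∈ Set.range (Algebra.TensorProduct.map (AlgHom.id A B) S.val) := by
  induction s using TensorProduct.induction_on with
  | zero => exact ⟨⊥, Subalgebra.fg_bot, 0, map_zero _⟩
  | tmul b a => exact ⟨Algebra.adjoin A {a}, Subalgebra.fg_def.2 ⟨{a}, Set.finite_singleton a, rfl⟩,
      b ⊗ₜ ⟨a, Algebra.subset_adjoin rfl⟩, by simp⟩
  | add s t hs ht =>
    obtain ⟨S, hS, s', hs'⟩ := hs
    obtain ⟨T, hT, t', ht'⟩ := ht
    have key : ∀ (U V : Subalgebra A A') (h : U ≤ V) (z : B ⊗[A] U),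
        Algebra.TensorProduct.map (AlgHom.id A B) V.val
            (Algebra.TensorProduct.map (AlgHom.id A B) (Subalgebra.inclusion h) z) =
          Algebra.TensorProduct.map (AlgHom.id A B) U.val z := fun U V h z => by
      induction z using TensorProduct.induction_on with
      | zero => simp
      | tmul b a => simp
      | add z w hz hw => simp only [map_add, hz, hw]
    exact ⟨S ⊔ T, hS.sup hT, Algebra.TensorProduct.map (AlgHom.id A B) (Subalgebra.inclusion le_sup_left) s' +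
      Algebra.TensorProduct.map (AlgHom.id A B) (Subalgebra.inclusion le_sup_right) t',
      by rw [map_add, key, key, hs', ht']⟩

theorem map_pullbackSpecIso {A B A' A'' : Type u} [CommRing A] [CommRing B] [Algebra A B] [CommRing A']
    [Algebra A A'] [CommRing A''] [Algebra A A''] (v : A'' →ₐ[A] A')
    (e : Spec.map (CommRingCat.ofHom (algebraMap A A')) ≫ 𝟙 _ =
      Spec.map (CommRingCat.ofHom v.toRingHom) ≫ Spec.map (CommRingCat.ofHom (algebraMap A A''))) :
    (pullbackSpecIso A B A').inv ≫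
        pullback.map (Spec.map (CommRingCat.ofHom (algebraMap A B))) (Spec.map (CommRingCat.ofHom (algebraMap A A')))
          (Spec.map (CommRingCat.ofHom (algebraMap A B))) (Spec.map (CommRingCat.ofHom (algebraMap A A'')))
          (𝟙 _) (Spec.map (CommRingCat.ofHom v.toRingHom)) (𝟙 _) (by simp) e =
      Spec.map (CommRingCat.ofHom (Algebra.TensorProduct.map (AlgHom.id A B) v).toRingHom) ≫
        (pullbackSpecIso A B A'').inv := by
  apply pullback.hom_ext
  · simp only [Category.assoc, limit.lift_π, PullbackCone.mk_π_app, Category.comp_id, pullbackSpecIso_inv_fst]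
    rw [← Spec.map_comp, ← CommRingCat.ofHom_comp]
    congr 2
    ext b
    simp
  · simp only [Category.assoc, limit.lift_π, PullbackCone.mk_π_app, pullbackSpecIso_inv_snd,
      pullbackSpecIso_inv_snd_assoc]
    rw [← Spec.map_comp, ← Spec.map_comp, ← CommRingCat.ofHom_comp, ← CommRingCat.ofHom_comp]
    congr 2

variable {X Y : Scheme.{u}} (f : Y ⟶ X)

/-- The statement for one affine chart of the base and of the source. -/
theorem specializes_chart
    (h : ∀ (X' : Scheme.{u}) (g : X' ⟶ X) [LocallyOfFiniteType g] (y₀ y₁ : ↥(pullback f g)),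
      (pullback.snd f g).base y₁ ⤳ (pullback.snd f g).base y₀ → y₁ ⤳ y₀)
    (A B A' : Type u) [CommRing A] [CommRing B] [Algebra A B] [CommRing A'] [Algebra A A']
    (jA : Spec (CommRingCat.of A) ⟶ X) [IsOpenImmersion jA]
    (iB : Spec (CommRingCat.of B) ⟶ Y) [IsOpenImmersion iB]
    (hq : iB ≫ f = Spec.map (CommRingCat.ofHom (algebraMap A B)) ≫ jA)
    (y₀ y₁ : ↥(pullback f (Spec.map (CommRingCat.ofHom (algebraMap A A')) ≫ jA)))
    (h₀ : (pullback.fst f (Spec.map (CommRingCat.ofHom (algebraMap A A')) ≫ jA)) y₀ ∈ Set.range iB)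
    (hs : (pullback.snd f (Spec.map (CommRingCat.ofHom (algebraMap A A')) ≫ jA)) y₁ ⤳
      (pullback.snd f (Spec.map (CommRingCat.ofHom (algebraMap A A')) ≫ jA)) y₀) : y₁ ⤳ y₀ := by
  let q := Spec.map (CommRingCat.ofHom (algebraMap A B))
  let r' := Spec.map (CommRingCat.ofHom (algebraMap A A'))
  let ι' : pullback q r' ⟶ pullback f (r' ≫ jA) :=
    pullback.map q r' f (r' ≫ jA) iB (𝟙 _) jA hq.symm (by simp)
  have hrange : Set.range ι' =
      pullback.fst f (r' ≫ jA) ⁻¹' Set.range iB ∩ pullback.snd f (r' ≫ jA) ⁻¹' Set.range (𝟙 (Spec (CommRingCat.of A')) : _ ⟶ _) :=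
    Scheme.Pullback.range_map _ _ _ _ _ _ _ _ _
  haveI : IsOpenImmersion ι' := inferInstance
  obtain ⟨p₀, rfl⟩ : y₀ ∈ Set.range ι' := hrange ▸ ⟨h₀, ⟨_, rfl⟩⟩
  rw [specializes_iff_forall_open]
  intro W hW hWmem
  have hopen : IsOpen ((pullbackSpecIso A B A').inv ⁻¹' (ι' ⁻¹' W)) :=
    (hW.preimage ι'.continuous).preimage (pullbackSpecIso A B A').inv.continuous
  have hp0 : (pullbackSpecIso A B A').hom p₀ ∈ (pullbackSpecIso A B A').inv ⁻¹' (ι' ⁻¹' W) := by
    show ι' (((pullbackSpecIso A B A').hom ≫ (pullbackSpecIso A B A').inv) p₀) ∈ W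
    rw [Iso.hom_inv_id]
    exact hWmem
  obtain ⟨_, ⟨s, rfl⟩, hp0s, hsW⟩ :=
    PrimeSpectrum.isTopologicalBasis_basic_opens.exists_subset_of_mem_open hp0 hopen
  obtain ⟨S, hS, s'', rfl⟩ := exists_fg_mem_range s
  let r'' := Spec.map (CommRingCat.ofHom (algebraMap A S))
  let v := Spec.map (CommRingCat.ofHom S.val.toRingHom)
  have hv : v ≫ r'' = r' := by
    rw [← Spec.map_comp, ← CommRingCat.ofHom_comp]
    rfl
  haveI : LocallyOfFiniteType r'' := by
    rw [HasRingHomProperty.Spec_iff (P := @LocallyOfFiniteType)]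
    exact RingHom.finiteType_algebraMap.2 ((Subalgebra.fg_iff_finiteType S).1 hS)
  let ι'' : pullback q r'' ⟶ pullback f (r'' ≫ jA) :=
    pullback.map q r'' f (r'' ≫ jA) iB (𝟙 _) jA hq.symm (by simp)
  haveI : IsOpenImmersion ι'' := inferInstance
  let πQ : pullback f (r' ≫ jA) ⟶ pullback f (r'' ≫ jA) :=
    pullback.map f (r' ≫ jA) f (r'' ≫ jA) (𝟙 _) v (𝟙 _) (by simp) (by rw [← Category.assoc, hv, Category.comp_id])
  let π : pullback q r' ⟶ pullback q r'' :=
    pullback.map q r' q r'' (𝟙 _) v (𝟙 _) (by simp) (by rw [hv, Category.comp_id])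
  have hcomm : ι' ≫ πQ = π ≫ ι'' := by
    apply pullback.hom_ext <;> simp [ι', ι'', πQ, π]
  have hcomm' : ∀ p, πQ (ι' p) = ι'' (π p) := fun p => by
    rw [← Scheme.Hom.comp_apply, hcomm, Scheme.Hom.comp_apply]
  have hπ : ∀ p, (pullbackSpecIso A B S).hom (π p) =
      Spec.map (CommRingCat.ofHom (Algebra.TensorProduct.map (AlgHom.id A B) S.val).toRingHom)
        ((pullbackSpecIso A B A').hom p) := fun p => by
    have := congrArg (fun m => (pullbackSpecIso A B A').hom ≫ m ≫ (pullbackSpecIso A B S).hom)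
      (map_pullbackSpecIso (B := B) S.val (by rw [Category.comp_id]; exact hv.symm))
    simp only [Iso.hom_inv_id_assoc, Category.assoc, Iso.inv_hom_id, Category.comp_id] at this
    rw [← Scheme.Hom.comp_apply, ← Scheme.Hom.comp_apply, ← this]
  have hspec : πQ y₁ ⤳ ι'' (π p₀) := by
    rw [← hcomm']
    refine h _ (r'' ≫ jA) _ _ ?_
    have hsnd : ∀ z, pullback.snd f (r'' ≫ jA) (πQ z) = v (pullback.snd f (r' ≫ jA) z) := fun z => by
      rw [← Scheme.Hom.comp_apply, ← Scheme.Hom.comp_apply]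
      simp [πQ]
    rw [hsnd, hsnd]
    exact hs.map v.continuous
  let D : Set ↥(pullback q r'') := (pullbackSpecIso A B S).hom ⁻¹' (↑(PrimeSpectrum.basicOpen s'') : Set (PrimeSpectrum (B ⊗[A] S)))
  have hD : π p₀ ∈ D := by
    simp only [D, Set.mem_preimage, hπ]
    exact hp0s
  obtain ⟨p'', hp''D, hp''⟩ : πQ y₁ ∈ ι'' '' D :=
    hspec.mem_open (ι''.isOpenEmbedding.isOpenMap _
      ((PrimeSpectrum.isOpen_basicOpen (a := s'')).preimage (pullbackSpecIso A B S).hom.continuous)) ⟨_, hD, rfl⟩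
  obtain ⟨p₁, rfl⟩ : y₁ ∈ Set.range ι' := hrange ▸ ⟨⟨pullback.fst q r'' p'', by
    rw [← Scheme.Hom.comp_apply, ← show ι'' ≫ pullback.fst f (r'' ≫ jA) = pullback.fst q r'' ≫ iB by simp [ι''],
      Scheme.Hom.comp_apply, hp'', ← Scheme.Hom.comp_apply]
    simp [πQ]⟩, ⟨_, rfl⟩⟩
  rw [hcomm'] at hp''
  obtain rfl := ι''.isOpenEmbedding.injective hp''
  simp only [D, Set.mem_preimage, hπ] at hp''D
  have := hsW hp''D
  change ι' (((pullbackSpecIso A B A').hom ≫ (pullbackSpecIso A B A').inv) p₁) ∈ W at this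
  rw [Iso.hom_inv_id] at this
  exact this

/-- If `f` reflects specializations after every base change locally of finite type, it does so after every
base change. -/
theorem reflects
    (h : ∀ (X' : Scheme.{u}) (g : X' ⟶ X) [LocallyOfFiniteType g] (y₀ y₁ : ↥(pullback f g)),
      (pullback.snd f g).base y₁ ⤳ (pullback.snd f g).base y₀ → y₁ ⤳ y₀)
    {X' : Scheme.{u}} (g : X' ⟶ X) (y₀ y₁ : ↥(pullback f g))
    (hs : (pullback.snd f g) y₁ ⤳ (pullback.snd f g) y₀) : y₁ ⤳ y₀ := by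
  have hxx : f (pullback.fst f g y₀) = g (pullback.snd f g y₀) := by
    rw [← Scheme.Hom.comp_apply, pullback.condition, Scheme.Hom.comp_apply]
  obtain ⟨X₀, hX₀, hx₀, -⟩ :=
    exists_isAffineOpen_mem_and_subset (x := g (pullback.snd f g y₀)) (U := (⊤ : X.Opens)) (TopologicalSpace.Opens.mem_top _)
  obtain ⟨U', hU', hz₀, hU'le⟩ :=
    exists_isAffineOpen_mem_and_subset (x := pullback.snd f g y₀) (U := g ⁻¹ᵁ X₀) hx₀
  obtain ⟨V, hV, hy₀, hVle⟩ :=
    exists_isAffineOpen_mem_and_subset (x := pullback.fst f g y₀) (U := f ⁻¹ᵁ X₀)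
      (by simpa [hxx] using hx₀)
  letI : Algebra Γ(X, X₀) Γ(Y, V) := (f.appLE X₀ V hVle).hom.toAlgebra
  letI : Algebra Γ(X, X₀) Γ(X', U') := (g.appLE X₀ U' hU'le).hom.toAlgebra
  haveI : IsOpenImmersion hX₀.fromSpec := hX₀.isOpenImmersion_fromSpec
  haveI : IsOpenImmersion hV.fromSpec := hV.isOpenImmersion_fromSpec
  haveI : IsOpenImmersion hU'.fromSpec := hU'.isOpenImmersion_fromSpec
  have hq : hV.fromSpec ≫ f = Spec.map (CommRingCat.ofHom (algebraMap Γ(X, X₀) Γ(Y, V))) ≫ hX₀.fromSpec :=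
    (IsAffineOpen.SpecMap_appLE_fromSpec f hX₀ hV hVle).symm
  have hr : hU'.fromSpec ≫ g = Spec.map (CommRingCat.ofHom (algebraMap Γ(X, X₀) Γ(X', U'))) ≫ hX₀.fromSpec :=
    (IsAffineOpen.SpecMap_appLE_fromSpec g hX₀ hU' hU'le).symm
  let κ : pullback f (Spec.map (CommRingCat.ofHom (algebraMap Γ(X, X₀) Γ(X', U'))) ≫ hX₀.fromSpec) ⟶ pullback f g :=
    pullback.map _ _ _ _ (𝟙 _) hU'.fromSpec (𝟙 _) (by simp) (by rw [Category.comp_id]; exact hr.symm)
  have hrange : Set.range κ = pullback.fst f g ⁻¹' Set.range (𝟙 Y : _ ⟶ _) ∩ pullback.snd f g ⁻¹' Set.range hU'.fromSpec :=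
    Scheme.Pullback.range_map _ _ _ _ _ _ _ _ _
  haveI : IsOpenImmersion κ := inferInstance
  have hz₁ : pullback.snd f g y₁ ∈ U' := hs.mem_open U'.2 hz₀
  obtain ⟨q₀, rfl⟩ : y₀ ∈ Set.range κ := hrange ▸ ⟨⟨_, rfl⟩, hU'.range_fromSpec.symm ▸ hz₀⟩
  obtain ⟨q₁, rfl⟩ : y₁ ∈ Set.range κ := hrange ▸ ⟨⟨_, rfl⟩, hU'.range_fromSpec.symm ▸ hz₁⟩
  refine (specializes_chart f h _ _ _ hX₀.fromSpec hV.fromSpec hq q₀ q₁ ?_ ?_).map κ.continuous
  · have e : ∀ t, pullback.fst f g (κ t) = pullback.fst f _ t := fun t => by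
      rw [← Scheme.Hom.comp_apply]
      simp [κ]
    rw [e] at hy₀
    rw [hV.range_fromSpec]
    exact hy₀
  · refine hU'.fromSpec.isOpenEmbedding.isInducing.specializes_iff.1 ?_
    have e : ∀ t, pullback.snd f g (κ t) = hU'.fromSpec (pullback.snd f _ t) := fun t => by
      rw [← Scheme.Hom.comp_apply, ← Scheme.Hom.comp_apply]
      simp only [κ, limit.lift_π, PullbackCone.mk_π_app]
    rw [e, e] at hs
    exact hs

end GrothLib.ReflSpecBC
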